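import Cfsg.Agent.H539.Lim.Defs

/-!
# S5242, section B: orbit sums and degree zero (tasks B1, B2; helper481)
-/

set_option autoImplicit false

namespace Cfsg.Agent.H481.Lim

open MulAction Cfsg.Agent.H539.Lim

universe u v w

/-- a maximal subgroup of a `p`-group -/
theorem exists_max {p : ℕ} [Fact p.Prime] {A : Type*} [Group A] [Finite A] (hA : IsPGroup p A) {B : Subgroup A}
    (hB : B ≠ ⊤) : ∃ M : Subgroup A, B ≤ M ∧ M.index = p ∧ M.Normal := by
  have hp : p.Prime := Fact.out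
  obtain ⟨n, hn⟩ := IsPGroup.iff_card.1 hA
  obtain ⟨k, hk⟩ := IsPGroup.iff_card.1 (hA.to_subgroup B)
  have hkn : k < n := by
    by_contra hcon
    push Not at hcon
    apply hB
    refine Subgroup.eq_top_of_le_card B ?_
    rw [hn, hk]
    exact Nat.pow_le_pow_right hp.pos hcon
  obtain ⟨M, hM, hBM⟩ := Sylow.exists_subgroup_card_pow_prime_le p (n := k) (m := n - 1)
    (by rw [hn]; exact pow_dvd_pow p (by omega)) B hk (by omega)
  have hi : M.index = p := by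
    have h1 := M.card_mul_index
    rw [hM, hn] at h1
    have h2 : p ^ n = p ^ (n - 1) * p := by
      rw [← pow_succ]
      congr 1
      omega
    rw [h2] at h1
    exact Nat.eq_of_mul_eq_mul_left (pow_pos hp.pos _) h1
  refine ⟨M, hBM, hi, ?_⟩
  apply Subgroup.normal_of_index_eq_minFac_card
  rw [hi, hn, Nat.Prime.pow_minFac hp (by omega)]

section

variable {G : Type u} [Group G]

theorem exists_M {p : ℕ} [Fact p.Prime] {A : Subgroup G} [Finite ↥A] (hA : IsPGroup p A) {B : Subgroup G}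
    (hB : ¬ A ≤ B) : ∃ M : Subgroup G, M ≤ A ∧ M.relIndex A = p ∧ (∀ c ∈ A, c ∈ B → c ∈ M) ∧
      ∃ a ∈ A, a ∉ M ∧ (∀ c ∈ A, ∃ i < p, ∃ m ∈ M, c = a ^ i * m) ∧
        ∀ i < p, ∀ j < p, ∀ m ∈ M, ∀ m' ∈ M, ∀ b ∈ A, b ∈ B → a ^ i * m * b = a ^ j * m' → i = j := by
  have hp : p.Prime := Fact.out
  obtain ⟨M', hBM, hi, hn⟩ := exists_max hA (B := B.subgroupOf A) (by
    intro h
    apply hB
    exact Subgroup.subgroupOf_eq_top.1 h)
  have hcard : Nat.card (↥A ⧸ M') = p := hi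
  have hfin : Finite (↥A ⧸ M') := inferInstance
  have htop : M' ≠ ⊤ := by
    rintro rfl
    rw [Subgroup.index_top] at hi
    exact hp.one_lt.ne hi
  obtain ⟨a, ha⟩ : ∃ a : ↥A, a ∉ M' := by
    by_contra hcon
    push Not at hcon
    exact htop ((Subgroup.eq_top_iff' M').2 hcon)
  have ha1 : (QuotientGroup.mk a : ↥A ⧸ M') ≠ 1 := by
    rwa [ne_eq, QuotientGroup.eq_one_iff]
  have hap : (QuotientGroup.mk a : ↥A ⧸ M') ^ p = 1 := by
    rw [← hcard]
    exact pow_card_eq_one'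
  have ho : orderOf (QuotientGroup.mk a : ↥A ⧸ M') = p := orderOf_eq_prime hap ha1
  refine ⟨M'.map A.subtype, ?_, ?_, ?_, (a : G), a.2, ?_, ?_, ?_⟩
  · rintro _ ⟨x, -, rfl⟩
    exact x.2
  · rw [Subgroup.relIndex]
    have : (M'.map A.subtype).subgroupOf A = M' := by
      ext x
      rw [Subgroup.mem_subgroupOf]
      constructor
      · rintro ⟨y, hy, hyx⟩
        have : y = x := Subtype.ext hyx
        rwa [← this]
      · intro hx
        exact ⟨x, hx, rfl⟩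
    rw [this, hi]
  · intro c hc hcB
    exact ⟨⟨c, hc⟩, hBM hcB, rfl⟩
  · rintro ⟨x, hx, hxa⟩
    apply ha
    have : x = a := Subtype.ext hxa
    rwa [← this]
  · intro c hc
    obtain ⟨n, hn'⟩ := (mem_powers_of_prime_card hcard ha1 : (QuotientGroup.mk (⟨c, hc⟩ : ↥A) : ↥A ⧸ M') ∈ _)
    have hn2 : (QuotientGroup.mk a : ↥A ⧸ M') ^ (n % p) = QuotientGroup.mk (⟨c, hc⟩ : ↥A) := by
      rw [← ho, pow_mod_orderOf]
      exact hn'
    rw [← QuotientGroup.mk_pow, QuotientGroup.eq] at hn2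
    refine ⟨n % p, Nat.mod_lt _ hp.pos, _, ⟨_, hn2, rfl⟩, ?_⟩
    simp
  · rintro i hi' j hj _ ⟨m, hm, rfl⟩ _ ⟨m', hm', rfl⟩ b hb hbB h
    have h1 : a ^ i * m * ⟨b, hb⟩ = a ^ j * m' := Subtype.ext h
    have h2 := congrArg (QuotientGroup.mk : ↥A → ↥A ⧸ M') h1
    have hbM : (⟨b, hb⟩ : ↥A) ∈ M' := hBM hbB
    rw [QuotientGroup.mk_mul, QuotientGroup.mk_mul, QuotientGroup.mk_mul, (QuotientGroup.eq_one_iff _).2 hbM,
      (QuotientGroup.eq_one_iff _).2 hm, (QuotientGroup.eq_one_iff _).2 hm', mul_one, mul_one, mul_one,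
      QuotientGroup.mk_pow, QuotientGroup.mk_pow] at h2
    exact pow_injOn_Iio_orderOf (by rw [ho]; exact hi') (by rw [ho]; exact hj) h2

end

section

variable {G : Type u} [Group G] {Ω : Type v} [MulAction G Ω] {D : Type w} [AddCommGroup D]
  [DistribMulAction G D]

/-- one orbit -/
theorem orbit_sum {p : ℕ} [Fact p.Prime] [Finite G] {A : Subgroup G} (hA : IsPGroup p A) (hg : NGood p D A)
    (Z : Finset Ω) (hZ : ∀ a ∈ A, ∀ y ∈ Z, a • y ∈ Z) {y : Ω} (hy : y ∈ Z) (hfix : ¬ A ≤ stabilizer G y)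
    (f : Ω → D) (hf : ∀ a ∈ A, ∀ y ∈ Z, f (a • y) = a • f y) (w : D) (hw : ∀ y ∈ Z, p • f y = w)
    (hwA : ∀ a ∈ A, a • w = w) :
    ∃ O : Finset Ω, O ⊆ Z ∧ y ∈ O ∧ (∀ a ∈ A, ∀ u ∈ O, a • u ∈ O) ∧ ∃ m : ℕ, O.card = p * m ∧
      ∑ u ∈ O, f u = m • w := by
  classical
  obtain ⟨M, hMA, hMp, hBM, a, ha, haM, hpow, huniq⟩ := exists_M hA hfix
  set O : Finset Ω := Z.filter fun u => ∃ c ∈ A, u = c • y with hO
  set OM : Finset Ω := Z.filter fun u => ∃ c ∈ M, u = c • y with hOM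
  have hOZ : O ⊆ Z := Finset.filter_subset _ _
  have hOMZ : OM ⊆ Z := Finset.filter_subset _ _
  have hmem : ∀ (i : ℕ), ∀ u ∈ OM, a ^ i • u ∈ O := by
    intro i u hu
    obtain ⟨hu1, c, hc, rfl⟩ := Finset.mem_filter.1 hu
    refine Finset.mem_filter.2 ⟨hZ _ (pow_mem ha i) _ hu1, a ^ i * c, mul_mem (pow_mem ha i) (hMA hc), ?_⟩
    rw [mul_smul]
  have hinj : ∀ x ∈ Finset.range p ×ˢ OM, ∀ x' ∈ Finset.range p ×ˢ OM, a ^ x.1 • x.2 = a ^ x'.1 • x'.2 → x = x' := by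
    rintro ⟨i, u⟩ hx ⟨j, u'⟩ hx' h
    rw [Finset.mem_product, Finset.mem_range] at hx hx'
    obtain ⟨hi, hu⟩ := hx
    obtain ⟨hj, hu'⟩ := hx'
    obtain ⟨-, c, hc, hcu⟩ := Finset.mem_filter.1 hu
    obtain ⟨-, c', hc', hcu'⟩ := Finset.mem_filter.1 hu'
    dsimp only at h hi hj hcu hcu'
    rw [hcu, hcu', smul_smul, smul_smul] at h
    have h1 : (a ^ i * c)⁻¹ * (a ^ j * c') ∈ stabilizer G y := by
      rw [mem_stabilizer_iff, mul_smul, ← h, inv_smul_smul]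
    have h2 : i = j := huniq i hi j hj c hc c' hc' _ (mul_mem (inv_mem (mul_mem (pow_mem ha i) (hMA hc)))
      (mul_mem (pow_mem ha j) (hMA hc'))) h1 (by group)
    subst h2
    rw [mul_smul, mul_smul] at h
    have h3 := smul_left_cancel _ h
    rw [hcu, hcu', h3]
  have hsurj : ∀ u ∈ O, ∃ x ∈ Finset.range p ×ˢ OM, a ^ x.1 • x.2 = u := by
    intro u hu
    obtain ⟨hu1, c, hc, rfl⟩ := Finset.mem_filter.1 hu
    obtain ⟨i, hi, m, hm, rfl⟩ := hpow c hc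
    refine ⟨(i, m • y), Finset.mem_product.2 ⟨Finset.mem_range.2 hi, Finset.mem_filter.2 ⟨hZ m (hMA hm) y hy, m, hm, rfl⟩⟩,
      ?_⟩
    rw [mul_smul]
  have hcard : O.card = p * OM.card := by
    have h0 : p * OM.card = (Finset.range p ×ˢ OM).card := by rw [Finset.card_product, Finset.card_range]
    rw [h0]
    refine (Finset.card_nbij (fun x : ℕ × Ω => a ^ x.1 • x.2) ?_ ?_ ?_).symm
    · rintro ⟨i, u⟩ hx
      exact hmem i u (Finset.mem_product.1 hx).2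
    · intro x hx x' hx' h
      exact hinj x hx x' hx' h
    · intro u hu
      obtain ⟨x, hx, h⟩ := hsurj u hu
      exact ⟨x, hx, h⟩
  have hsum : ∑ u ∈ O, f u = ∑ i ∈ Finset.range p, a ^ i • ∑ u ∈ OM, f u := by
    have h1 : ∑ x ∈ Finset.range p ×ˢ OM, f (a ^ x.1 • x.2) = ∑ u ∈ O, f u := by
      refine Finset.sum_nbij (fun x : ℕ × Ω => a ^ x.1 • x.2) ?_ ?_ ?_ (fun _ _ => rfl)
      · rintro ⟨i, u⟩ hx
        exact hmem i u (Finset.mem_product.1 hx).2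
      · intro x hx x' hx' h
        exact hinj x hx x' hx' h
      · intro u hu
        obtain ⟨x, hx, h⟩ := hsurj u hu
        exact ⟨x, hx, h⟩
    rw [← h1, Finset.sum_product]
    refine Finset.sum_congr rfl fun i _ => ?_
    rw [Finset.smul_sum]
    exact Finset.sum_congr rfl fun u hu => hf _ (pow_mem ha i) u (hOMZ hu)
  have hMz : ∀ m ∈ M, m • ∑ u ∈ OM, f u = ∑ u ∈ OM, f u := by
    intro m hm
    rw [Finset.smul_sum]
    have h1 : ∀ u ∈ OM, m • f u = f (m • u) := fun u hu => (hf m (hMA hm) u (hOMZ hu)).symm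
    rw [Finset.sum_congr rfl h1]
    refine Finset.sum_nbij (fun u => m • u) ?_ ?_ ?_ (fun _ _ => rfl)
    · intro u hu
      obtain ⟨hu1, c, hc, rfl⟩ := Finset.mem_filter.1 hu
      exact Finset.mem_filter.2 ⟨hZ _ (hMA hm) _ hu1, m * c, mul_mem hm hc, by rw [mul_smul]⟩
    · intro u _ u' _ h
      exact smul_left_cancel m h
    · intro u hu
      obtain ⟨hu1, c, hc, rfl⟩ := Finset.mem_filter.1 hu
      refine ⟨m⁻¹ • c • y, Finset.mem_coe.2 (Finset.mem_filter.2 ⟨hZ _ (inv_mem (hMA hm)) _ hu1, m⁻¹ * c,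
        mul_mem (inv_mem hm) hc, by rw [mul_smul]⟩), ?_⟩
      dsimp only
      rw [smul_inv_smul]
  have hpz : p • ∑ u ∈ OM, f u = OM.card • w := by
    rw [Finset.smul_sum, Finset.sum_congr rfl fun u hu => hw u (hOMZ hu), Finset.sum_const]
  refine ⟨O, hOZ, Finset.mem_filter.2 ⟨hy, 1, one_mem _, (one_smul _ _).symm⟩, ?_, OM.card, hcard, ?_⟩
  · intro b hb u hu
    obtain ⟨hu1, c, hc, rfl⟩ := Finset.mem_filter.1 hu
    exact Finset.mem_filter.2 ⟨hZ _ hb _ hu1, b * c, mul_mem hb hc, by rw [mul_smul]⟩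
  · rw [hsum, hg M hMA hMp _ hMz ?_ a ha haM, hpz]
    intro b hb
    rw [hpz, smul_comm, hwA b hb]

/-- B1: orbit sums -/
theorem NGood.sum_eq {p : ℕ} [Fact p.Prime] [Finite G] {A : Subgroup G} (hA : IsPGroup p A) (hg : NGood p D A)
    (Z : Finset Ω) (hZ : ∀ a ∈ A, ∀ y ∈ Z, a • y ∈ Z) (hfix : ∀ y ∈ Z, ¬ A ≤ stabilizer G y)
    (f : Ω → D) (hf : ∀ a ∈ A, ∀ y ∈ Z, f (a • y) = a • f y) (w : D) (hw : ∀ y ∈ Z, p • f y = w)
    (hwA : ∀ a ∈ A, a • w = w) : ∃ m : ℕ, Z.card = p * m ∧ ∑ y ∈ Z, f y = m • w := by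
  classical
  induction hn : Z.card using Nat.strong_induction_on generalizing Z with
  | _ n ih =>
    rcases Z.eq_empty_or_nonempty with rfl | ⟨y, hy⟩
    · exact ⟨0, by rw [← hn]; simp, by simp⟩
    · obtain ⟨O, hOZ, hyO, hOA, m, hm, hs⟩ := orbit_sum hA hg Z hZ hy (hfix y hy) f hf w hw hwA
      have hlt : (Z \ O).card < n := by
        rw [← hn]
        refine Finset.card_lt_card ⟨Finset.sdiff_subset, fun h => ?_⟩
        exact (Finset.mem_sdiff.1 (h hy)).2 hyO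
      obtain ⟨m', hm', hs'⟩ := ih _ hlt (Z \ O) (by
          intro a ha u hu
          rw [Finset.mem_sdiff] at hu ⊢
          refine ⟨hZ a ha u hu.1, fun h => hu.2 ?_⟩
          have := hOA a⁻¹ (inv_mem ha) _ h
          rwa [inv_smul_smul] at this)
        (fun u hu => hfix u (Finset.mem_sdiff.1 hu).1) (fun a ha u hu => hf a ha u (Finset.mem_sdiff.1 hu).1)
        (fun u hu => hw u (Finset.mem_sdiff.1 hu).1) rfl
      refine ⟨m' + m, ?_, ?_⟩
      · rw [← hn, ← Finset.card_sdiff_add_card_eq_card hOZ, hm', hm, mul_add]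
      · rw [← Finset.sum_sdiff hOZ, hs', hs, add_smul]

/-- an orbit of points with Sylow stabilizers -/
theorem exists_orbit {p : ℕ} [Fact p.Prime] [Finite G] [Finite Ω] (hΩ : PSet p G Ω) :
    ∃ Ω₀ : Finset Ω, (∀ (g : G), ∀ y ∈ Ω₀, g • y ∈ Ω₀) ∧ (∀ y ∈ Ω₀, ∀ z ∈ Ω₀, ∃ g : G, g • y = z) ∧
      (∀ y ∈ Ω₀, ∃ S : Sylow p G, (S : Subgroup G) = stabilizer G y) ∧ ¬ p ∣ Ω₀.card ∧ Ω₀.Nonempty := by
  classical
  obtain ⟨S⟩ : Nonempty (Sylow p G) := inferInstance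
  obtain ⟨x, hx⟩ := hΩ.exists_fix S S.2
  have hS : stabilizer G x = S := S.is_maximal' (hΩ.pgroup x) hx
  refine ⟨(Set.toFinite (orbit G x)).toFinset, ?_, ?_, ?_, ?_, ?_⟩
  · intro g y hy
    rw [Set.Finite.mem_toFinset] at hy ⊢
    obtain ⟨h, rfl⟩ := hy
    exact ⟨g * h, mul_smul g h x⟩
  · intro y hy z hz
    rw [Set.Finite.mem_toFinset] at hy hz
    obtain ⟨h, rfl⟩ := hy
    obtain ⟨k, rfl⟩ := hz
    refine ⟨k * h⁻¹, ?_⟩
    show (k * h⁻¹) • h • x = k • x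
    rw [mul_smul, inv_smul_smul]
  · intro y hy
    rw [Set.Finite.mem_toFinset] at hy
    obtain ⟨h, rfl⟩ := hy
    refine ⟨h • S, ?_⟩
    show _ = stabilizer G (h • x)
    rw [stabilizer_smul_eq_stabilizer_map_conj, hS]
    rfl
  · have h1 := MulAction.index_stabilizer G x
    rw [hS, Set.ncard_eq_toFinset_card _ (Set.toFinite _)] at h1
    rw [← h1]
    exact S.not_dvd_index
  · exact ⟨x, by rw [Set.Finite.mem_toFinset]; exact mem_orbit_self x⟩

theorem exists_exp {p : ℕ} [Finite D] (hD : IsPTors p D) : ∃ K : ℕ, ∀ d : D, (p ^ K : ℕ) • d = 0 := by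
  classical
  have := Fintype.ofFinite D
  choose k hk using hD
  refine ⟨Finset.univ.sup k, fun d => ?_⟩
  have h1 : k d ≤ Finset.univ.sup k := Finset.le_sup (Finset.mem_univ d)
  obtain ⟨j, hj⟩ := Nat.exists_eq_add_of_le h1
  rw [hj, pow_add, mul_comm, mul_smul, hk, smul_zero]

theorem H0_step {p : ℕ} [Fact p.Prime] [Finite G] [Finite Ω] [Finite D] (hΩ : PSet p G Ω) (hD : IsPTors p D)
    (𝒜 : Set (Subgroup G)) (hi : IsInv 𝒜) (hp : ∀ A ∈ 𝒜, IsPGroup p A) (hg : ∀ A ∈ 𝒜, NGood p D A)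
    (f : Ω → D) (hf : ∀ (g : G) y, f (g • y) = g • f y)
    (hloc : ∀ x y, (∃ A ∈ 𝒜, A ≤ stabilizer G x ⊓ stabilizer G y) → f x = f y) (w : D) (hw : ∀ g : G, g • w = w)
    (hpf : ∀ x, (∃ A ∈ 𝒜, A ≤ stabilizer G x) → p • f x = w) :
    ∃ d : D, (∀ g : G, g • d = d) ∧ ∀ x, (∃ A ∈ 𝒜, A ≤ stabilizer G x) → f x = d := by
  classical
  obtain ⟨Ω₀, h1, -, h3, h4, -⟩ := exists_orbit hΩ
  obtain ⟨K, hK⟩ := exists_exp hD
  have hs : ∀ x, (∃ A ∈ 𝒜, A ≤ stabilizer G x) → ∑ y ∈ Ω₀, f y = Ω₀.card • f x := by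
    rintro x ⟨A, hA, hAx⟩
    have hQ : ∀ y ∈ Ω₀, ∃ B ∈ 𝒜, B ≤ stabilizer G y := by
      intro y hy
      obtain ⟨S, hS⟩ := h3 y hy
      obtain ⟨P, hP⟩ := (hp A hA).exists_le_sylow
      obtain ⟨g, hgS⟩ := MulAction.exists_smul_eq G P S
      refine ⟨cj g A, hi g A hA, ?_⟩
      rw [← hS, ← hgS]
      exact Subgroup.map_mono hP
    rw [← Finset.sum_filter_add_sum_filter_not Ω₀ (fun y => A ≤ stabilizer G y)]
    have e1 : ∑ y ∈ Ω₀.filter (fun y => A ≤ stabilizer G y), f y = (Ω₀.filter (fun y => A ≤ stabilizer G y)).card • f x := by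
      rw [Finset.sum_congr rfl fun y hy => (hloc x y ⟨A, hA, le_inf hAx (Finset.mem_filter.1 hy).2⟩).symm, Finset.sum_const]
    obtain ⟨m, hm, hsm⟩ := NGood.sum_eq (hp A hA) (hg A hA) (Ω₀.filter (fun y => ¬ A ≤ stabilizer G y)) (by
        intro a ha y hy
        obtain ⟨hy1, hy2⟩ := Finset.mem_filter.1 hy
        refine Finset.mem_filter.2 ⟨h1 a y hy1, fun h => hy2 ?_⟩
        intro b hb
        have h5 := h (mul_mem (mul_mem ha hb) (inv_mem ha))
        rw [mem_stabilizer_iff, mul_smul, inv_smul_smul, mul_smul] at h5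
        rw [mem_stabilizer_iff]
        exact smul_left_cancel a h5)
      (fun y hy => (Finset.mem_filter.1 hy).2) f (fun a _ y _ => hf a y) w
      (fun y hy => hpf y (hQ y (Finset.mem_filter.1 hy).1)) (fun a _ => hw a)
    rw [e1, hsm, ← hpf x ⟨A, hA, hAx⟩, smul_smul, mul_comm m p, ← hm, ← add_smul]
    congr 1
    exact Finset.card_filter_add_card_filter_not _
  have hcop : IsCoprime (Ω₀.card : ℤ) ((p ^ K : ℕ) : ℤ) := by
    rw [Nat.isCoprime_iff_coprime]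
    exact Nat.Coprime.pow_right K ((Nat.Prime.coprime_iff_not_dvd Fact.out).2 h4).symm
  obtain ⟨a, b, hab⟩ := hcop
  refine ⟨a • ∑ y ∈ Ω₀, f y, ?_, ?_⟩
  · intro g
    rw [smul_comm, Finset.smul_sum]
    congr 1
    rw [Finset.sum_congr rfl fun y _ => (hf g y).symm]
    refine Finset.sum_nbij (fun u => g • u) (fun u hu => h1 g u hu) ?_ ?_ (fun _ _ => rfl)
    · intro u _ u' _ h
      exact smul_left_cancel g h
    · intro u hu
      refine ⟨g⁻¹ • u, h1 _ _ hu, ?_⟩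
      dsimp only
      rw [smul_inv_smul]
  · intro x hx
    rw [hs x hx]
    calc f x = (a * (Ω₀.card : ℤ) + b * ((p ^ K : ℕ) : ℤ)) • f x := by rw [hab, one_smul]
      _ = a • (Ω₀.card • f x) := by
        rw [add_smul, mul_smul, mul_smul, natCast_zsmul, natCast_zsmul, hK, smul_zero, add_zero]

/-- B2: degree zero -/
theorem H0_Q {p : ℕ} [Fact p.Prime] [Finite G] [Finite Ω] [Finite D] (hΩ : PSet p G Ω) (hD : IsPTors p D)
    (𝒜 : Set (Subgroup G)) (hi : IsInv 𝒜) (hp : ∀ A ∈ 𝒜, IsPGroup p A) (hg : ∀ A ∈ 𝒜, NGood p D A)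
    (v : Ω → D) (hv : ∀ (g : G) y, v (g • y) = g • v y)
    (hloc : ∀ x y, (∃ A ∈ 𝒜, A ≤ stabilizer G x ⊓ stabilizer G y) → v x = v y) :
    ∃ d : D, (∀ g : G, g • d = d) ∧ ∀ x, (∃ A ∈ 𝒜, A ≤ stabilizer G x) → v x = d := by
  obtain ⟨K, hK⟩ := exists_exp hD
  have key : ∀ n : ℕ, ∀ f : Ω → D, (∀ (g : G) y, f (g • y) = g • f y) →
      (∀ x y, (∃ A ∈ 𝒜, A ≤ stabilizer G x ⊓ stabilizer G y) → f x = f y) → (∀ x, (p ^ n : ℕ) • f x = 0) →
      ∃ d : D, (∀ g : G, g • d = d) ∧ ∀ x, (∃ A ∈ 𝒜, A ≤ stabilizer G x) → f x = d := by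
    intro n
    induction n with
    | zero =>
      intro f _ _ h0
      refine ⟨0, fun g => smul_zero g, fun x _ => ?_⟩
      have := h0 x
      rwa [pow_zero, one_smul] at this
    | succ n ih =>
      intro f hf hl h0
      obtain ⟨w, hw, hw'⟩ := ih (fun x => p • f x) (fun g y => by
          show p • f (g • y) = g • p • f y
          rw [hf, smul_comm]) (fun x y hxy => by
          show p • f x = p • f y
          rw [hl x y hxy]) (fun x => by
          show (p ^ n : ℕ) • p • f x = 0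
          rw [smul_smul, ← pow_succ]
          exact h0 x)
      exact H0_step hΩ hD 𝒜 hi hp hg f hf hl w hw hw'
  exact key K v hv hloc fun x => hK _

end

end Cfsg.Agent.H481.Lim
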